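import Mathlib.RingTheory.AdjoinRoot
import Mathlib.RingTheory.Localization.Integral
import Mathlib.RingTheory.Polynomial.IntegralNormalization
import Mathlib.RingTheory.TensorProduct.Maps
import Mathlib.LinearAlgebra.Dimension.Finrank

/-!
When is a localisation of `R[z]/(h)` integral; rank of the generic fibre.
-/

set_option autoImplicit false
universe u

namespace QuadProjLib

open Polynomial

variable {R : Type u} [CommRing R] [IsDomain R]

open scoped TensorProduct in
noncomputable def baseEquiv (h : R[X]) (K : Type u) [CommRing K] [Algebra R K] :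
    K ⊗[R] AdjoinRoot h ≃ₐ[K] AdjoinRoot (h.map (algebraMap R K)) :=
  AlgEquiv.ofAlgHom
    (Algebra.TensorProduct.lift (Algebra.ofId K _)
      (AdjoinRoot.liftAlgHom h (Algebra.ofId R _) (AdjoinRoot.root _) (by
        have := AdjoinRoot.eval₂_root (h.map (algebraMap R K))
        rw [eval₂_map] at this
        exact this))
      fun _ _ => .all ..)
    (AdjoinRoot.liftAlgHom _ (Algebra.ofId K _) (1 ⊗ₜ AdjoinRoot.root h) (by
      rw [eval₂_map]
      have h1 : Polynomial.aeval ((1 : K) ⊗ₜ[R] AdjoinRoot.root h) h = 0 := by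
        rw [← Algebra.TensorProduct.includeRight_apply, aeval_algHom_apply, AdjoinRoot.aeval_eq,
          AdjoinRoot.mk_self, map_zero]
      rw [aeval_def] at h1
      refine Eq.trans ?_ h1
      refine congrArg (fun f : R →+* K ⊗[R] AdjoinRoot h => eval₂ f _ h) ?_
      exact RingHom.ext fun r => (IsScalarTower.algebraMap_apply R K _ r).symm))
    (by ext; simp)
    (by ext; simp)

open scoped TensorProduct in
lemma finrank_tensor (h : R[X]) (hne : h ≠ 0) (K : Type u) [Field K] [Algebra R K]
    [IsFractionRing R K] : Module.finrank K (K ⊗[R] AdjoinRoot h) = h.natDegree := by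
  have hinj := IsFractionRing.injective R K
  rw [(baseEquiv h K).toLinearEquiv.finrank_eq,
    (AdjoinRoot.powerBasis ((Polynomial.map_ne_zero_iff hinj).mpr hne)).finrank,
    AdjoinRoot.powerBasis_dim, natDegree_map_eq_of_injective hinj]

lemma integral_iff (h : R[X]) (S : Submonoid R) :
    Algebra.IsIntegral (Localization S) (Localization (Algebra.algebraMapSubmonoid (AdjoinRoot h) S)) ↔
      IsUnit (algebraMap R (Localization S) h.leadingCoeff) := by
  classical
  let A := AdjoinRoot h
  let A' := Localization (Algebra.algebraMapSubmonoid A S)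
  constructor
  · intro hint
    obtain ⟨m, p, hp, hp0⟩ := IsIntegral.exists_multiple_integral_of_isLocalization S
      (algebraMap A A' (AdjoinRoot.root h)) (hint.isIntegral _)
    have h1 : algebraMap A A' (AdjoinRoot.mk h (p.comp (C (m : R) * X))) = 0 := by
      have h2 : (m : R) • algebraMap A A' (AdjoinRoot.root h) =
          algebraMap A A' (AdjoinRoot.mk h (C (m : R) * X)) := by
        rw [map_mul, AdjoinRoot.mk_C, AdjoinRoot.mk_X, map_mul, Algebra.smul_def,
          IsScalarTower.algebraMap_apply R A A', AdjoinRoot.algebraMap_eq]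
      rw [← aeval_def, Submonoid.smul_def, h2] at hp0
      rw [← AdjoinRoot.aeval_eq, aeval_comp, AdjoinRoot.aeval_eq, ← hp0,
        ← aeval_algebraMap_apply]
    obtain ⟨⟨_, t, ht, rfl⟩, ht0⟩ :=
      (IsLocalization.map_eq_zero_iff (Algebra.algebraMapSubmonoid A S) A' _).mp h1
    have ht0' : AdjoinRoot.mk h (C t * p.comp (C (m : R) * X)) = 0 := by
      rw [map_mul, AdjoinRoot.mk_C]
      exact ht0
    obtain ⟨q, hq⟩ := AdjoinRoot.mk_eq_zero.mp ht0'
    have hlc := congrArg leadingCoeff hq
    rw [leadingCoeff_mul, leadingCoeff_mul, leadingCoeff_C] at hlc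
    rcases eq_or_ne (m : R) 0 with hm | hm
    · haveI := IsLocalization.subsingleton (S := Localization S) (M := S) (hm ▸ m.2)
      exact isUnit_of_subsingleton _
    rw [leadingCoeff_comp (by rw [natDegree_C_mul_X _ hm]; exact one_ne_zero), hp.leadingCoeff,
      leadingCoeff_C_mul_X, one_mul] at hlc
    refine isUnit_of_mul_isUnit_left (y := algebraMap R _ q.leadingCoeff) ?_
    rw [← map_mul, ← hlc]
    exact IsLocalization.map_units (Localization S)
      (⟨_, mul_mem ht (pow_mem m.2 _)⟩ : S)
  · intro hu
    have hroot : IsIntegral (Localization S) (algebraMap A A' (AdjoinRoot.root h)) := by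
      have h1 := isIntegral_leadingCoeff_smul h (AdjoinRoot.root h)
        (by rw [AdjoinRoot.aeval_eq, AdjoinRoot.mk_self])
      have h2 : IsIntegral (Localization S) (algebraMap A A' (h.leadingCoeff • AdjoinRoot.root h)) :=
        (h1.map (IsScalarTower.toAlgHom R A A')).tower_top
      obtain ⟨v, hv⟩ := hu
      have h3 := h2.smul ((v⁻¹ : (Localization S)ˣ) : Localization S)
      rwa [Algebra.smul_def h.leadingCoeff, map_mul, ← IsScalarTower.algebraMap_apply R A A',
        ← Algebra.smul_def, ← IsScalarTower.algebraMap_smul (Localization S) h.leadingCoeff,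
        ← hv, smul_smul, Units.inv_mul, one_smul] at h3
    refine ⟨fun z => ?_⟩
    obtain ⟨a, ⟨_, t, ht, rfl⟩, rfl⟩ := IsLocalization.exists_mk'_eq (Algebra.algebraMapSubmonoid A S) z
    have ha : IsIntegral (Localization S) (algebraMap A A' a) := by
      obtain ⟨p, rfl⟩ := AdjoinRoot.mk_surjective a
      rw [← AdjoinRoot.aeval_eq, ← aeval_algebraMap_apply, aeval_eq_sum_range]
      exact IsIntegral.sum _ fun i _ => (hroot.pow i).smul _
    have h4 : IsLocalization.mk' A' a
        (⟨algebraMap R A t, t, ht, rfl⟩ : Algebra.algebraMapSubmonoid A S) =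
        algebraMap (Localization S) A' (IsLocalization.mk' _ 1 ⟨t, ht⟩) * algebraMap A A' a := by
      rw [IsLocalization.mk'_eq_iff_eq_mul]
      show _ = _ * algebraMap A A' (algebraMap R A t)
      rw [← IsScalarTower.algebraMap_apply R A A', IsScalarTower.algebraMap_apply R (Localization S) A',
        mul_right_comm, ← map_mul, IsLocalization.mk'_spec, map_one, map_one, one_mul]
    rw [h4]
    exact isIntegral_algebraMap.mul ha

end QuadProjLib
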